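import Cfsg.Agent.Lib.Helper35.Simple2
import Cfsg.Agent.Lib.Helper35.PresON

namespace Cfsg.Agent.Lib.Helper35.ONOrd.Y0

open Cfsg.Agent.Lib.Helper35

set_option maxRecDepth 100000
noncomputable section
def yw : List Nat := [3, 4, 5, 0]
noncomputable def tA0 : Nat := 0x45c00008b0000002a20000007c80880000000870000000000000000000850000000000000000000c900000000032c00000000000006b1c300000011f00005a05408104a042000
noncomputable def tJ0 : Nat := 0x4000000000000000000000005000000000000000000000000000000000000000000000000000003000000000000000000000000001002000000000000001001000001001000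
noncomputable def tA1 : Nat := 0x3c12d00000000000000000000000000002690000000c75a90004ae0000000000005830000000845e900000000000000000000006c08200006506200005b05520a081043000
noncomputable def tJ1 : Nat := 0x4002000000000000000000000000000002000000005883000001000000000000004000000001783000000000000000000000000001000000000000000000001001000000
noncomputable def tA2 : Nat := 0x34c0000000001e41e10000000002290000002280000000000000000000000c80c700000000000000000040324300000000000008218914a11900000000008129004b044000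
noncomputable def tJ2 : Nat := 0x3000000000004003000000000000000000000000000000000000000000005004000000000000000000006002000000000000000000002000000000000000000001001000
noncomputable def tA3 : Nat := 0x40e08b00041e0000002e208a0000000000000000007480860c90c80c700000070800000000000000000076d08300000000000008206d06711e00011c05f08105605104c045000
noncomputable def tJ3 : Nat := 0x3000000002000000006000000000000000000000002000005004003000000747000000000000000000002000000000000000000001001000000000001000001001001001000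
noncomputable def tA4 : Nat := 0x45e31800000000021108a0ce0000004830000000c90c80004ae0000000000000002ed0000000000000c50832694290001270000c740706812112010c08111305705204d046000
noncomputable def tJ4 : Nat := 0x2000000000000002000003000000007000000004006000000000000000000000004000000000000002000000445000000000003305001000000000000000001001001001000
noncomputable def tA5 : Nat := 0x8b3ce0000007a608a5640000880000c90000000000007470000000850c600000008400070700000008300000000000000000000006e06912406608111b05c05805304e047000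
noncomputable def tJ5 : Nat := 0x2000000002000002000000000004000000000000002000000000003000000000000002000000000000000000000000000000001001000001000000001001001001001000
noncomputable def tA6 : Nat := 0x86682600000000000008674800008500000000008400000070800000000000000000008200000000000006a00008106306005d05900004f048000
noncomputable def tJ6 : Nat := 0x2003000000000000001002000001000000000001000000002000000000000000000001000000000000000000001000000000000000000000000
noncomputable def tA7 : Nat := 0x2510000000001181170000000000870000000860000000850000000000000001690000000000000000002ad0820000000000002030c408100006406105e10a000050049000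
noncomputable def tJ7 : Nat := 0x4000000000006005000000000000000000000000000000000000000000000000000000000000000000000000000000000000003002000000001001001000000001001000
noncomputable def tA8 : Nat := 0x5c53823443c97487025096447a58c14526cf55e4ca5595565936d961a54d64b8cb3cd5416c139038b6c170b3d06cd8026016cb3cb9047017048826825046847817028c1000000
noncomputable def tJ8 : Nat := 0x78500900750428141984038601a21d00a1c1a0300b18118300d141b8e18cb8f200b45a02153b08b041461d6b4215201bb83154b4008015541701c71184271001f41821e000000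
noncomputable def tP : Nat := 0xb52ccb12c0a6294a428c85204771d87119c6618c5715855144501184511043104400d4340cc2709825090230882005c160541404c120441000000
def par : Par := ⟨12, 6, 4095, 63, 4159, 4096⟩
def tabs : Nat → Nat
  | 0 => tA0
  | 1 => tA1
  | 2 => tA2
  | 3 => tA3
  | 4 => tA4
  | 5 => tA5
  | 6 => tA6
  | 7 => tA7
  | 8 => tA8
  | _ => 0
def pe (u : Nat) : Nat := Nat.land (Nat.shiftRight tP (Nat.mul u 10)) 1023
def je0 (v : Nat) : Nat := Nat.land (Nat.shiftRight tJ0 (Nat.mul v 12)) 4095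
def stp0 (off v : Nat) : Nat := Nat.land (Nat.add (Nat.land (Nat.shiftRight tA0 (Nat.mul v 12)) 4095) off) 4159
theorem stp0_eq : ∀ off v, stp0 off v = step par (tabs 0) off v := fun _ _ => rfl
attribute [irreducible] stp0
def je1 (v : Nat) : Nat := Nat.land (Nat.shiftRight tJ1 (Nat.mul v 12)) 4095
def stp1 (off v : Nat) : Nat := Nat.land (Nat.add (Nat.land (Nat.shiftRight tA1 (Nat.mul v 12)) 4095) off) 4159
theorem stp1_eq : ∀ off v, stp1 off v = step par (tabs 1) off v := fun _ _ => rfl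
attribute [irreducible] stp1
def je2 (v : Nat) : Nat := Nat.land (Nat.shiftRight tJ2 (Nat.mul v 12)) 4095
def stp2 (off v : Nat) : Nat := Nat.land (Nat.add (Nat.land (Nat.shiftRight tA2 (Nat.mul v 12)) 4095) off) 4159
theorem stp2_eq : ∀ off v, stp2 off v = step par (tabs 2) off v := fun _ _ => rfl
attribute [irreducible] stp2
def je3 (v : Nat) : Nat := Nat.land (Nat.shiftRight tJ3 (Nat.mul v 12)) 4095
def stp3 (off v : Nat) : Nat := Nat.land (Nat.add (Nat.land (Nat.shiftRight tA3 (Nat.mul v 12)) 4095) off) 4159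
theorem stp3_eq : ∀ off v, stp3 off v = step par (tabs 3) off v := fun _ _ => rfl
attribute [irreducible] stp3
def je4 (v : Nat) : Nat := Nat.land (Nat.shiftRight tJ4 (Nat.mul v 12)) 4095
def stp4 (off v : Nat) : Nat := Nat.land (Nat.add (Nat.land (Nat.shiftRight tA4 (Nat.mul v 12)) 4095) off) 4159
theorem stp4_eq : ∀ off v, stp4 off v = step par (tabs 4) off v := fun _ _ => rfl
attribute [irreducible] stp4
def je5 (v : Nat) : Nat := Nat.land (Nat.shiftRight tJ5 (Nat.mul v 12)) 4095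
def stp5 (off v : Nat) : Nat := Nat.land (Nat.add (Nat.land (Nat.shiftRight tA5 (Nat.mul v 12)) 4095) off) 4159
theorem stp5_eq : ∀ off v, stp5 off v = step par (tabs 5) off v := fun _ _ => rfl
attribute [irreducible] stp5
def je6 (v : Nat) : Nat := Nat.land (Nat.shiftRight tJ6 (Nat.mul v 12)) 4095
def stp6 (off v : Nat) : Nat := Nat.land (Nat.add (Nat.land (Nat.shiftRight tA6 (Nat.mul v 12)) 4095) off) 4159
theorem stp6_eq : ∀ off v, stp6 off v = step par (tabs 6) off v := fun _ _ => rfl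
attribute [irreducible] stp6
def je7 (v : Nat) : Nat := Nat.land (Nat.shiftRight tJ7 (Nat.mul v 12)) 4095
def stp7 (off v : Nat) : Nat := Nat.land (Nat.add (Nat.land (Nat.shiftRight tA7 (Nat.mul v 12)) 4095) off) 4159
theorem stp7_eq : ∀ off v, stp7 off v = step par (tabs 7) off v := fun _ _ => rfl
attribute [irreducible] stp7
def je8 (v : Nat) : Nat := Nat.land (Nat.shiftRight tJ8 (Nat.mul v 12)) 4095
def stp8 (off v : Nat) : Nat := Nat.land (Nat.add (Nat.land (Nat.shiftRight tA8 (Nat.mul v 12)) 4095) off) 4159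
theorem stp8_eq : ∀ off v, stp8 off v = step par (tabs 8) off v := fun _ _ => rfl
attribute [irreducible] stp8
def je : Nat → Nat → Nat
  | 0 => je0
  | 1 => je1
  | 2 => je2
  | 3 => je3
  | 4 => je4
  | 5 => je5
  | 6 => je6
  | 7 => je7
  | 8 => je8
  | _ => fun _ => 0
def st : Nat → Nat → Nat → Nat
  | 0 => stp0
  | 1 => stp1
  | 2 => stp2
  | 3 => stp3
  | 4 => stp4
  | 5 => stp5
  | 6 => stp6
  | 7 => stp7
  | 8 => stp8
  | _ => fun off v => step par 0 off v
theorem hst : ∀ l off v, st l off v = step par (tabs l) off v := by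
  intro l off v
  rcases Nat.lt_or_ge l 9 with h | h
  · interval_cases l
    exacts [stp0_eq off v, stp1_eq off v, stp2_eq off v, stp3_eq off v, stp4_eq off v, stp5_eq off v, stp6_eq off v, stp7_eq off v, stp8_eq off v]
  · obtain ⟨k, rfl⟩ : ∃ k, l = k + 9 := ⟨l - 9, by omega⟩
    rfl
def lf0_0 : Leaf (walkS st) := ⟨[1], [], 1, 0, (fun off v => (stp1 off v)), (fun _ v => v), (fun _ u _ => u), fun _ _ => rfl, fun _ _ => rfl⟩
def lf0_2 : Leaf (walkS st) := ⟨[], [2, 7, 1], 47, 0, (fun _ v => v), (fun off v => (stp1 off (stp7 off (stp2 off v)))), (fun v _ _ => v), fun _ _ => rfl, fun _ _ => rfl⟩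
def lf0_3 : Leaf (walkS st) := ⟨[], [1, 2, 7], 47, 1, (fun _ v => v), (fun off v => (stp7 off (stp2 off (stp1 off v)))), (fun v _ _ => v), fun _ _ => rfl, fun _ _ => rfl⟩
def lf0_4 : Leaf (walkS st) := ⟨[], [5, 4, 3], 8, 3, (fun _ v => v), (fun off v => (stp3 off (stp4 off (stp5 off v)))), (fun v _ _ => v), fun _ _ => rfl, fun _ _ => rfl⟩
def lf0_5 : Leaf (walkS st) := ⟨[], [8, 0], 0, 0, (fun _ v => v), (fun off v => (stp0 off (stp8 off v))), (fun v _ _ => v), fun _ _ => rfl, fun _ _ => rfl⟩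
def tree0 : RTree (walkS st) :=
  (.node 1 (.fork lf0_0) (.node 2 .tleaf (.node 4 (.node 3 (.fork lf0_2) (.fork lf0_3)) (.node 5 (.fork lf0_4) (.fork lf0_5)))))
def lf1_1 : Leaf (walkS st) := ⟨[0], [], 0, 0, (fun off v => (stp0 off v)), (fun _ v => v), (fun _ u _ => u), fun _ _ => rfl, fun _ _ => rfl⟩
def lf1_2 : Leaf (walkS st) := ⟨[], [0, 7, 2], 24, 3, (fun _ v => v), (fun off v => (stp2 off (stp7 off (stp0 off v)))), (fun v _ _ => v), fun _ _ => rfl, fun _ _ => rfl⟩
def lf1_3 : Leaf (walkS st) := ⟨[8], [1], 1, 0, (fun off v => (stp8 off v)), (fun off v => (stp1 off v)), (fun _ _ p => p), fun _ _ => rfl, fun _ _ => rfl⟩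
def lf1_4 : Leaf (walkS st) := ⟨[], [8, 1], 1, 0, (fun _ v => v), (fun off v => (stp1 off (stp8 off v))), (fun v _ _ => v), fun _ _ => rfl, fun _ _ => rfl⟩
def lf1_5 : Leaf (walkS st) := ⟨[], [3, 4, 5], 31, 0, (fun _ v => v), (fun off v => (stp5 off (stp4 off (stp3 off v)))), (fun v _ _ => v), fun _ _ => rfl, fun _ _ => rfl⟩
def tree1 : RTree (walkS st) :=
  (.node 2 (.node 1 .tleaf (.fork lf1_1)) (.node 4 (.node 3 (.fork lf1_2) (.fork lf1_3)) (.node 5 (.fork lf1_4) (.fork lf1_5))))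
def lf2_0 : Leaf (walkS st) := ⟨[2], [], 2, 0, (fun off v => (stp2 off v)), (fun _ v => v), (fun _ u _ => u), fun _ _ => rfl, fun _ _ => rfl⟩
def lf2_2 : Leaf (walkS st) := ⟨[], [7, 2, 7], 13, 0, (fun _ v => v), (fun off v => (stp7 off (stp2 off (stp7 off v)))), (fun v _ _ => v), fun _ _ => rfl, fun _ _ => rfl⟩
def lf2_3 : Leaf (walkS st) := ⟨[], [4, 2, 4], 10, 2, (fun _ v => v), (fun off v => (stp4 off (stp2 off (stp4 off v)))), (fun v _ _ => v), fun _ _ => rfl, fun _ _ => rfl⟩
def lf2_4 : Leaf (walkS st) := ⟨[], [5, 2, 5], 11, 2, (fun _ v => v), (fun off v => (stp5 off (stp2 off (stp5 off v)))), (fun v _ _ => v), fun _ _ => rfl, fun _ _ => rfl⟩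
def lf2_5 : Leaf (walkS st) := ⟨[], [6, 2, 6], 12, 2, (fun _ v => v), (fun off v => (stp6 off (stp2 off (stp6 off v)))), (fun v _ _ => v), fun _ _ => rfl, fun _ _ => rfl⟩
def lf2_6 : Leaf (walkS st) := ⟨[], [8, 2], 2, 0, (fun _ v => v), (fun off v => (stp2 off (stp8 off v))), (fun v _ _ => v), fun _ _ => rfl, fun _ _ => rfl⟩
def tree2 : RTree (walkS st) :=
  (.node 2 (.node 1 (.fork lf2_0) .tleaf) (.node 4 (.node 3 (.fork lf2_2) (.fork lf2_3)) (.node 5 (.fork lf2_4) (.node 6 (.fork lf2_5) (.fork lf2_6)))))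
def lf3_0 : Leaf (walkS st) := ⟨[3], [], 3, 0, (fun off v => (stp3 off v)), (fun _ v => v), (fun _ u _ => u), fun _ _ => rfl, fun _ _ => rfl⟩
def lf3_2 : Leaf (walkS st) := ⟨[], [8, 3], 3, 0, (fun _ v => v), (fun off v => (stp3 off (stp8 off v))), (fun v _ _ => v), fun _ _ => rfl, fun _ _ => rfl⟩
def lf3_3 : Leaf (walkS st) := ⟨[], [5, 3, 5], 15, 2, (fun _ v => v), (fun off v => (stp5 off (stp3 off (stp5 off v)))), (fun v _ _ => v), fun _ _ => rfl, fun _ _ => rfl⟩
def lf3_4 : Leaf (walkS st) := ⟨[], [6, 3, 6], 16, 2, (fun _ v => v), (fun off v => (stp6 off (stp3 off (stp6 off v)))), (fun v _ _ => v), fun _ _ => rfl, fun _ _ => rfl⟩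
def lf3_5 : Leaf (walkS st) := ⟨[], [7, 3, 7], 17, 2, (fun _ v => v), (fun off v => (stp7 off (stp3 off (stp7 off v)))), (fun v _ _ => v), fun _ _ => rfl, fun _ _ => rfl⟩
def lf3_6 : Leaf (walkS st) := ⟨[], [4, 5, 0], 31, 3, (fun _ v => v), (fun off v => (stp0 off (stp5 off (stp4 off v)))), (fun v _ _ => v), fun _ _ => rfl, fun _ _ => rfl⟩
def lf3_7 : Leaf (walkS st) := ⟨[8], [3], 3, 0, (fun off v => (stp8 off v)), (fun off v => (stp3 off v)), (fun _ _ p => p), fun _ _ => rfl, fun _ _ => rfl⟩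
def tree3 : RTree (walkS st) :=
  (.node 2 (.node 1 (.fork lf3_0) .tleaf) (.node 4 (.node 3 (.fork lf3_2) (.fork lf3_3)) (.node 6 (.node 5 (.fork lf3_4) (.fork lf3_5)) (.node 7 (.fork lf3_6) (.fork lf3_7)))))
def lf4_0 : Leaf (walkS st) := ⟨[4], [], 4, 0, (fun off v => (stp4 off v)), (fun _ v => v), (fun _ u _ => u), fun _ _ => rfl, fun _ _ => rfl⟩
def lf4_2 : Leaf (walkS st) := ⟨[], [5, 0, 3], 31, 2, (fun _ v => v), (fun off v => (stp3 off (stp0 off (stp5 off v)))), (fun v _ _ => v), fun _ _ => rfl, fun _ _ => rfl⟩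
def lf4_3 : Leaf (walkS st) := ⟨[], [3, 1, 5], 8, 1, (fun _ v => v), (fun off v => (stp5 off (stp1 off (stp3 off v)))), (fun v _ _ => v), fun _ _ => rfl, fun _ _ => rfl⟩
def lf4_4 : Leaf (walkS st) := ⟨[], [7, 4, 7], 20, 2, (fun _ v => v), (fun off v => (stp7 off (stp4 off (stp7 off v)))), (fun v _ _ => v), fun _ _ => rfl, fun _ _ => rfl⟩
def lf4_5 : Leaf (walkS st) := ⟨[8], [4], 4, 0, (fun off v => (stp8 off v)), (fun off v => (stp4 off v)), (fun _ _ p => p), fun _ _ => rfl, fun _ _ => rfl⟩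
def lf4_6 : Leaf (walkS st) := ⟨[], [6, 4, 6], 19, 2, (fun _ v => v), (fun off v => (stp6 off (stp4 off (stp6 off v)))), (fun v _ _ => v), fun _ _ => rfl, fun _ _ => rfl⟩
def lf4_7 : Leaf (walkS st) := ⟨[], [8, 4], 4, 0, (fun _ v => v), (fun off v => (stp4 off (stp8 off v))), (fun v _ _ => v), fun _ _ => rfl, fun _ _ => rfl⟩
def tree4 : RTree (walkS st) :=
  (.node 1 (.fork lf4_0) (.node 3 (.node 2 .tleaf (.fork lf4_2)) (.node 5 (.node 4 (.fork lf4_3) (.fork lf4_4)) (.node 6 (.fork lf4_5) (.node 7 (.fork lf4_6) (.fork lf4_7))))))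
def lf5_0 : Leaf (walkS st) := ⟨[5], [], 5, 0, (fun off v => (stp5 off v)), (fun _ v => v), (fun _ u _ => u), fun _ _ => rfl, fun _ _ => rfl⟩
def lf5_2 : Leaf (walkS st) := ⟨[], [8, 5], 5, 0, (fun _ v => v), (fun off v => (stp5 off (stp8 off v))), (fun v _ _ => v), fun _ _ => rfl, fun _ _ => rfl⟩
def lf5_3 : Leaf (walkS st) := ⟨[], [0, 3, 4], 31, 1, (fun _ v => v), (fun off v => (stp4 off (stp3 off (stp0 off v)))), (fun v _ _ => v), fun _ _ => rfl, fun _ _ => rfl⟩
def lf5_4 : Leaf (walkS st) := ⟨[], [7, 5, 7], 22, 2, (fun _ v => v), (fun off v => (stp7 off (stp5 off (stp7 off v)))), (fun v _ _ => v), fun _ _ => rfl, fun _ _ => rfl⟩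
def tree5 : RTree (walkS st) :=
  (.node 1 (.fork lf5_0) (.node 2 .tleaf (.node 3 (.fork lf5_2) (.node 4 (.fork lf5_3) (.fork lf5_4)))))
def lf6_1 : Leaf (walkS st) := ⟨[6], [], 6, 0, (fun off v => (stp6 off v)), (fun _ v => v), (fun _ u _ => u), fun _ _ => rfl, fun _ _ => rfl⟩
def lf6_2 : Leaf (walkS st) := ⟨[], [8, 6], 6, 0, (fun _ v => v), (fun off v => (stp6 off (stp8 off v))), (fun v _ _ => v), fun _ _ => rfl, fun _ _ => rfl⟩
def lf6_3 : Leaf (walkS st) := ⟨[], [0, 6, 5, 0, 5, 0, 6, 5, 0, 5], 53, 5, (fun _ v => v), (fun off v => (stp5 off (stp0 off (stp5 off (stp6 off (stp0 off (stp5 off (stp0 off (stp5 off (stp6 off (stp0 off v))))))))))), (fun v _ _ => v), fun _ _ => rfl, fun _ _ => rfl⟩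
def tree6 : RTree (walkS st) :=
  (.node 1 .tleaf (.node 2 (.fork lf6_1) (.node 3 (.fork lf6_2) (.fork lf6_3))))
def lf7_0 : Leaf (walkS st) := ⟨[7], [], 7, 0, (fun off v => (stp7 off v)), (fun _ v => v), (fun _ u _ => u), fun _ _ => rfl, fun _ _ => rfl⟩
def lf7_2 : Leaf (walkS st) := ⟨[], [1, 1, 2], 47, 2, (fun _ v => v), (fun off v => (stp2 off (stp1 off (stp1 off v)))), (fun v _ _ => v), fun _ _ => rfl, fun _ _ => rfl⟩
def lf7_3 : Leaf (walkS st) := ⟨[], [2, 0, 0], 24, 1, (fun _ v => v), (fun off v => (stp0 off (stp0 off (stp2 off v)))), (fun v _ _ => v), fun _ _ => rfl, fun _ _ => rfl⟩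
def lf7_4 : Leaf (walkS st) := ⟨[], [3, 7, 3], 17, 1, (fun _ v => v), (fun off v => (stp3 off (stp7 off (stp3 off v)))), (fun v _ _ => v), fun _ _ => rfl, fun _ _ => rfl⟩
def lf7_5 : Leaf (walkS st) := ⟨[], [4, 7, 4], 20, 1, (fun _ v => v), (fun off v => (stp4 off (stp7 off (stp4 off v)))), (fun v _ _ => v), fun _ _ => rfl, fun _ _ => rfl⟩
def lf7_6 : Leaf (walkS st) := ⟨[], [5, 7, 5], 22, 1, (fun _ v => v), (fun off v => (stp5 off (stp7 off (stp5 off v)))), (fun v _ _ => v), fun _ _ => rfl, fun _ _ => rfl⟩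
def tree7 : RTree (walkS st) :=
  (.node 1 (.fork lf7_0) (.node 2 .tleaf (.node 4 (.node 3 (.fork lf7_2) (.fork lf7_3)) (.node 5 (.fork lf7_4) (.node 6 (.fork lf7_5) (.fork lf7_6))))))
def lf8_0 : Leaf (walkS st) := ⟨[2], [8, 2], 2, 0, (fun off v => (stp2 off v)), (fun off v => (stp2 off (stp8 off v))), (fun _ _ p => p), fun _ _ => rfl, fun _ _ => rfl⟩
def lf8_1 : Leaf (walkS st) := ⟨[6], [8, 6], 6, 0, (fun off v => (stp6 off v)), (fun off v => (stp6 off (stp8 off v))), (fun _ _ p => p), fun _ _ => rfl, fun _ _ => rfl⟩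
def lf8_2 : Leaf (walkS st) := ⟨[7], [8, 7], 7, 0, (fun off v => (stp7 off v)), (fun off v => (stp7 off (stp8 off v))), (fun _ _ p => p), fun _ _ => rfl, fun _ _ => rfl⟩
def lf8_3 : Leaf (walkS st) := ⟨[3], [8, 3], 3, 0, (fun off v => (stp3 off v)), (fun off v => (stp3 off (stp8 off v))), (fun _ _ p => p), fun _ _ => rfl, fun _ _ => rfl⟩
def lf8_4 : Leaf (walkS st) := ⟨[8, 0], [0], 0, 0, (fun off v => (stp0 off (stp8 off v))), (fun off v => (stp0 off v)), (fun _ _ p => p), fun _ _ => rfl, fun _ _ => rfl⟩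
def lf8_5 : Leaf (walkS st) := ⟨[4], [8, 4], 4, 0, (fun off v => (stp4 off v)), (fun off v => (stp4 off (stp8 off v))), (fun _ _ p => p), fun _ _ => rfl, fun _ _ => rfl⟩
def lf8_6 : Leaf (walkS st) := ⟨[4], [8, 4, 8], 4, 0, (fun off v => (stp4 off v)), (fun off v => (stp8 off (stp4 off (stp8 off v)))), (fun _ _ p => p), fun _ _ => rfl, fun _ _ => rfl⟩
def lf8_7 : Leaf (walkS st) := ⟨[], [0, 3, 4, 5], 31, 1, (fun _ v => v), (fun off v => (stp5 off (stp4 off (stp3 off (stp0 off v))))), (fun v _ _ => v), fun _ _ => rfl, fun _ _ => rfl⟩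
def lf8_8 : Leaf (walkS st) := ⟨[8, 1], [1], 1, 0, (fun off v => (stp1 off (stp8 off v))), (fun off v => (stp1 off v)), (fun _ _ p => p), fun _ _ => rfl, fun _ _ => rfl⟩
def lf8_9 : Leaf (walkS st) := ⟨[], [2, 3, 2, 3, 2, 3], 32, 0, (fun _ v => v), (fun off v => (stp3 off (stp2 off (stp3 off (stp2 off (stp3 off (stp2 off v))))))), (fun v _ _ => v), fun _ _ => rfl, fun _ _ => rfl⟩
def lf8_10 : Leaf (walkS st) := ⟨[], [2, 4, 2, 4], 10, 3, (fun _ v => v), (fun off v => (stp4 off (stp2 off (stp4 off (stp2 off v))))), (fun v _ _ => v), fun _ _ => rfl, fun _ _ => rfl⟩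
def lf8_11 : Leaf (walkS st) := ⟨[], [4, 3, 4, 3, 4, 3], 14, 4, (fun _ v => v), (fun off v => (stp3 off (stp4 off (stp3 off (stp4 off (stp3 off (stp4 off v))))))), (fun v _ _ => v), fun _ _ => rfl, fun _ _ => rfl⟩
def lf8_12 : Leaf (walkS st) := ⟨[5], [8, 5, 8], 5, 0, (fun off v => (stp5 off v)), (fun off v => (stp8 off (stp5 off (stp8 off v)))), (fun _ _ p => p), fun _ _ => rfl, fun _ _ => rfl⟩
def lf8_13 : Leaf (walkS st) := ⟨[], [4, 5, 7, 2, 4, 5, 4, 5, 4, 5], 25, 4, (fun _ v => v), (fun off v => (stp5 off (stp4 off (stp5 off (stp4 off (stp5 off (stp4 off (stp2 off (stp7 off (stp5 off (stp4 off v))))))))))), (fun v _ _ => v), fun _ _ => rfl, fun _ _ => rfl⟩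
def lf8_14 : Leaf (walkS st) := ⟨[0], [8, 0], 0, 0, (fun off v => (stp0 off v)), (fun off v => (stp0 off (stp8 off v))), (fun _ _ p => p), fun _ _ => rfl, fun _ _ => rfl⟩
def lf8_15 : Leaf (walkS st) := ⟨[8, 5, 8], [5], 5, 0, (fun off v => (stp8 off (stp5 off (stp8 off v)))), (fun off v => (stp5 off v)), (fun _ _ p => p), fun _ _ => rfl, fun _ _ => rfl⟩
def lf8_16 : Leaf (walkS st) := ⟨[1, 8], [8, 8, 1, 8], 1, 0, (fun off v => (stp8 off (stp1 off v))), (fun off v => (stp8 off (stp1 off (stp8 off (stp8 off v))))), (fun _ _ p => p), fun _ _ => rfl, fun _ _ => rfl⟩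
def lf8_17 : Leaf (walkS st) := ⟨[3], [8, 8, 3, 8], 3, 0, (fun off v => (stp3 off v)), (fun off v => (stp8 off (stp3 off (stp8 off (stp8 off v))))), (fun _ _ p => p), fun _ _ => rfl, fun _ _ => rfl⟩
def lf8_18 : Leaf (walkS st) := ⟨[8, 1, 8], [1, 8], 1, 0, (fun off v => (stp8 off (stp1 off (stp8 off v)))), (fun off v => (stp8 off (stp1 off v))), (fun _ _ p => p), fun _ _ => rfl, fun _ _ => rfl⟩
def lf8_19 : Leaf (walkS st) := ⟨[8, 3], [3], 3, 0, (fun off v => (stp3 off (stp8 off v))), (fun off v => (stp3 off v)), (fun _ _ p => p), fun _ _ => rfl, fun _ _ => rfl⟩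
def lf8_20 : Leaf (walkS st) := ⟨[8, 5, 8], [5, 8, 8], 5, 0, (fun off v => (stp8 off (stp5 off (stp8 off v)))), (fun off v => (stp8 off (stp8 off (stp5 off v)))), (fun _ _ p => p), fun _ _ => rfl, fun _ _ => rfl⟩
def lf8_21 : Leaf (walkS st) := ⟨[8, 7], [7, 8, 8], 7, 0, (fun off v => (stp7 off (stp8 off v))), (fun off v => (stp8 off (stp8 off (stp7 off v)))), (fun _ _ p => p), fun _ _ => rfl, fun _ _ => rfl⟩
def lf8_22 : Leaf (walkS st) := ⟨[7, 8], [8, 7, 8, 8], 7, 0, (fun off v => (stp8 off (stp7 off v))), (fun off v => (stp8 off (stp8 off (stp7 off (stp8 off v))))), (fun _ _ p => p), fun _ _ => rfl, fun _ _ => rfl⟩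
def lf8_23 : Leaf (walkS st) := ⟨[8, 8, 0, 8], [0, 8], 0, 0, (fun off v => (stp8 off (stp0 off (stp8 off (stp8 off v))))), (fun off v => (stp8 off (stp0 off v))), (fun _ _ p => p), fun _ _ => rfl, fun _ _ => rfl⟩
def lf8_24 : Leaf (walkS st) := ⟨[2], [8, 8, 2], 2, 0, (fun off v => (stp2 off v)), (fun off v => (stp2 off (stp8 off (stp8 off v)))), (fun _ _ p => p), fun _ _ => rfl, fun _ _ => rfl⟩
def lf8_25 : Leaf (walkS st) := ⟨[4], [8, 8, 4, 8], 4, 0, (fun off v => (stp4 off v)), (fun off v => (stp8 off (stp4 off (stp8 off (stp8 off v))))), (fun _ _ p => p), fun _ _ => rfl, fun _ _ => rfl⟩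
def lf8_26 : Leaf (walkS st) := ⟨[], [5, 4, 3, 1], 8, 3, (fun _ v => v), (fun off v => (stp1 off (stp3 off (stp4 off (stp5 off v))))), (fun v _ _ => v), fun _ _ => rfl, fun _ _ => rfl⟩
def lf8_27 : Leaf (walkS st) := ⟨[], [6, 0, 6, 5, 0, 5, 0, 6, 5, 0, 5, 8], 53, 6, (fun _ v => v), (fun off v => (stp8 off (stp5 off (stp0 off (stp5 off (stp6 off (stp0 off (stp5 off (stp0 off (stp5 off (stp6 off (stp0 off (stp6 off v))))))))))))), (fun v _ _ => v), fun _ _ => rfl, fun _ _ => rfl⟩
def lf8_28 : Leaf (walkS st) := ⟨[], [5, 6, 5, 6, 5, 6, 8, 8], 44, 0, (fun _ v => v), (fun off v => (stp8 off (stp8 off (stp6 off (stp5 off (stp6 off (stp5 off (stp6 off (stp5 off v))))))))), (fun v _ _ => v), fun _ _ => rfl, fun _ _ => rfl⟩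
def lf8_29 : Leaf (walkS st) := ⟨[1], [8, 1], 1, 0, (fun off v => (stp1 off v)), (fun off v => (stp1 off (stp8 off v))), (fun _ _ p => p), fun _ _ => rfl, fun _ _ => rfl⟩
def lf8_30 : Leaf (walkS st) := ⟨[8, 6, 8], [6], 6, 0, (fun off v => (stp8 off (stp6 off (stp8 off v)))), (fun off v => (stp6 off v)), (fun _ _ p => p), fun _ _ => rfl, fun _ _ => rfl⟩
def lf8_31 : Leaf (walkS st) := ⟨[], [4, 1, 4, 3, 1, 3, 4, 1, 4, 3, 1, 8], 29, 0, (fun _ v => v), (fun off v => (stp8 off (stp1 off (stp3 off (stp4 off (stp1 off (stp4 off (stp3 off (stp1 off (stp3 off (stp4 off (stp1 off (stp4 off v))))))))))))), (fun v _ _ => v), fun _ _ => rfl, fun _ _ => rfl⟩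
def tree8 : RTree (walkS st) :=
  (.node 9 (.node 3 (.node 1 (.fork lf8_0) (.node 2 (.fork lf8_1) (.fork lf8_2))) (.node 5 (.node 4 (.fork lf8_3) (.fork lf8_4)) (.node 6 (.fork lf8_5) (.node 7 (.fork lf8_6) (.node 8 (.fork lf8_7) (.fork lf8_8)))))) (.node 20 (.node 14 (.node 11 (.node 10 (.fork lf8_9) (.fork lf8_10)) (.node 12 (.fork lf8_11) (.node 13 (.fork lf8_12) (.fork lf8_13)))) (.node 17 (.node 15 (.fork lf8_14) (.node 16 (.fork lf8_15) (.fork lf8_16))) (.node 18 (.fork lf8_17) (.node 19 (.fork lf8_18) (.fork lf8_19))))) (.node 26 (.node 23 (.node 21 (.fork lf8_20) (.node 22 (.fork lf8_21) (.fork lf8_22))) (.node 24 (.fork lf8_23) (.node 25 (.fork lf8_24) (.fork lf8_25)))) (.node 29 (.node 27 (.fork lf8_26) (.node 28 (.fork lf8_27) (.fork lf8_28))) (.node 30 (.fork lf8_29) (.node 31 (.fork lf8_30) (.fork lf8_31)))))))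
def trees : Nat → RTree (walkS st)
  | 0 => tree0
  | 1 => tree1
  | 2 => tree2
  | 3 => tree3
  | 4 => tree4
  | 5 => tree5
  | 6 => tree6
  | 7 => tree7
  | 8 => tree8
  | _ => .tleaf
noncomputable def fs0 (v : Nat) : Bool := chkSlot par tA0 je0 pe 6 63 16 (deadF par tA8) (fun _ => 46) tree0 0 v
noncomputable def fs1 (v : Nat) : Bool := chkSlot par tA1 je1 pe 6 63 16 (deadF par tA8) (fun _ => 46) tree1 1 v
noncomputable def fs2 (v : Nat) : Bool := chkSlot par tA2 je2 pe 6 63 16 (deadF par tA8) (fun _ => 46) tree2 2 v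
noncomputable def fs3 (v : Nat) : Bool := chkSlot par tA3 je3 pe 6 63 16 (deadF par tA8) (fun _ => 46) tree3 3 v
noncomputable def fs4 (v : Nat) : Bool := chkSlot par tA4 je4 pe 6 63 16 (deadF par tA8) (fun _ => 46) tree4 4 v
noncomputable def fs5 (v : Nat) : Bool := chkSlot par tA5 je5 pe 6 63 16 (deadF par tA8) (fun _ => 46) tree5 5 v
noncomputable def fs6 (v : Nat) : Bool := chkSlot par tA6 je6 pe 6 63 16 (deadF par tA8) (fun _ => 46) tree6 6 v
noncomputable def fs7 (v : Nat) : Bool := chkSlot par tA7 je7 pe 6 63 16 (deadF par tA8) (fun _ => 46) tree7 7 v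
noncomputable def fs8 (v : Nat) : Bool := chkSlot par tA8 je8 pe 6 63 16 (fun _ => true) (fun v => Nat.pred v) tree8 8 v
def gl (k : Nat) : Bool := liveF par tA8 (Nat.succ k)

end

end Cfsg.Agent.Lib.Helper35.ONOrd.Y0
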